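import Groth.Agent.RelSpecLib.Local

/-!
# An affine morphism is the relative spectrum of its direct image algebra
-/

set_option autoImplicit false
set_option backward.isDefEq.respectTransparency false

universe u

open CategoryTheory CategoryTheory.Limits AlgebraicGeometry TopologicalSpace Opposite
open RelSpec

noncomputable section

namespace Groth.Agent.GenFam

open Groth.Agent.RelSpecLib

variable {S Y : Scheme.{u}} (f : Y ⟶ S) [IsAffineHom f]

theorem exists_iso_spec : ∃ (G : (QCAlg.directImage f).spec ⟶ Y), IsIso G ∧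
    G ≫ f = (QCAlg.directImage f).π := by
  let A := QCAlg.directImage f
  obtain ⟨G, hG, -⟩ := existsUnique_glue A (fun _ => True)
    (fun x => by
      obtain ⟨_, ⟨U, hU, rfl⟩, hxU, -⟩ :=
        S.isBasis_affineOpens.exists_subset_of_mem_open (Set.mem_univ x) isOpen_univ
      exact ⟨U, hU, hxU, trivial⟩)
    (fun _ _ _ _ _ => trivial) (fun U hU _ => (hU.preimage f).fromSpec)
    (fun U V hU hV i _ _ => (hU.preimage f).map_fromSpec (hV.preimage f) (homOfLE (f.preimage_mono i)).op)
  have hπ : G ≫ f = A.π := RelSpecLib.hom_ext A fun U hU => by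
    rw [← Category.assoc, hG U hU trivial, QCAlg.ι_π]
    show (hU.preimage f).fromSpec ≫ f = Spec.map (f.app U) ≫ hU.fromSpec
    rw [Scheme.Hom.app_eq_appLE, IsAffineOpen.SpecMap_appLE_fromSpec]
  refine ⟨G, ?_, hπ⟩
  let 𝒰 : Y.OpenCover := Scheme.Cover.mkOfCovers {U : S.Opens // IsAffineOpen U} _
    (fun U => (U.2.preimage f).fromSpec) (fun x => by
      obtain ⟨_, ⟨U, hU, rfl⟩, hxU, -⟩ :=
        S.isBasis_affineOpens.exists_subset_of_mem_open (Set.mem_univ (f x)) isOpen_univ
      obtain ⟨z, hz⟩ := (IsAffineOpen.opensRange_fromSpec (hU.preimage f)).ge hxU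
      exact ⟨⟨U, hU⟩, z, hz⟩)
  refine (IsZariskiLocalAtTarget.iff_of_openCover (P := MorphismProperty.isomorphisms Scheme.{u}) 𝒰).2 ?_
  rintro ⟨U, hU⟩
  haveI := (hU.preimage f).isOpenImmersion_fromSpec
  have hrange : G ⁻¹ᵁ (hU.preimage f).fromSpec.opensRange = (A.ι U hU).opensRange := by
    rw [(hU.preimage f).opensRange_fromSpec, ← A.π_preimage U hU, ← Scheme.Hom.comp_preimage, hπ]
  have hcomm : A.ι U hU ≫ G = 𝟙 _ ≫ (hU.preimage f).fromSpec := by
    rw [hG U hU trivial, Category.id_comp]
  have pb := IsOpenImmersion.isPullback (𝟙 _) (A.ι U hU) (hU.preimage f).fromSpec G hcomm hrange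
  change MorphismProperty.isomorphisms Scheme.{u} (pullback.snd G (hU.preimage f).fromSpec)
  rw [← pb.flip.isoPullback_inv_snd, MorphismProperty.cancel_left_of_respectsIso (MorphismProperty.isomorphisms Scheme.{u})]
  exact inferInstanceAs (IsIso (𝟙 _))

end Groth.Agent.GenFam

end
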