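import Groth.Agent.GenFam.Span
import Groth.Agent.HomShQC.Basic
import Groth.Agent.Props.QFP
import Groth.Agent.S9716

/-!
# Direct images of generating families along finite flat surjective morphisms
-/

set_option autoImplicit false
set_option linter.style.haveILetI false

universe u

open CategoryTheory CategoryTheory.Limits AlgebraicGeometry TopologicalSpace Opposite
open scoped TensorProduct

noncomputable section

namespace Groth.Agent.GenFam

open Groth.Agent.PullStalk.Sky Groth.Agent.PullStalk.Exact Groth.Agent.Omega.Stalks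
  Groth.Agent.QCoh

/-- A faithfully flat finite projective algebra has linear forms combining to send `1` to `1`. -/
theorem exists_form_one (A B : Type u) [CommRing A] [CommRing B] [Algebra A B] [Module.Projective A B]
    (h : ∀ m : Ideal A, m.IsMaximal → m.map (algebraMap A B) ≠ ⊤) :
    ∃ φ : B →ₗ[A] A, φ 1 = 1 := by
  let I : Submodule A A := LinearMap.range (LinearMap.applyₗ (1 : B) : (B →ₗ[A] A) →ₗ[A] A)
  suffices hI : I = ⊤ by
    obtain ⟨φ, hφ⟩ := (hI ▸ Submodule.mem_top : (1 : A) ∈ I)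
    exact ⟨φ, hφ⟩
  by_contra hI
  obtain ⟨m, hm, hIm⟩ := Ideal.exists_le_maximal (I : Ideal A) hI
  refine h m hm ((Ideal.eq_top_iff_one _).2 ?_)
  obtain ⟨s, hs⟩ := Module.projective_def.1 (inferInstance : Module.Projective A B)
  rw [← hs 1, Finsupp.linearCombination_apply]
  refine Submodule.sum_mem _ fun b _ => ?_
  show (s 1 b) • id b ∈ _
  rw [Algebra.smul_def]
  exact Ideal.mul_mem_right _ _ (Ideal.mem_map_of_mem _ (hIm ⟨(Finsupp.lapply b).comp s, rfl⟩))

variable {X Y : Scheme.{u}} (f : X ⟶ Y)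

/-- The direct image of the structure sheaf. -/
abbrev pushO : Y.Modules := (Scheme.Modules.pushforward f).obj (Coh.structureModule X)

theorem isFinLocFree_pushO [IsFinite f] [Flat f] [LocallyOfFinitePresentation f] :
    FlatMod.IsFinLocFree (pushO f) :=
  ((S9716.result f).2 ⟨inferInstance, inferInstance, inferInstance⟩).2

theorem sec_res (F G : Y.Modules) {U V : Y.Opens} (h : V ≤ U) (g : Γ(RefHull.homSh F G, U))
    (m : Γ(F, U)) :
    res G h (HomShQC.sec F G g m) = HomShQC.sec F G (res (RefHull.homSh F G) h g) (res F h m) :=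
  HomShQC.sec_ext G fun y hy => by
    rw [HomShQC.germM_res, HomShQC.germM_sec F G g m ⟨y, h hy⟩,
      HomShQC.germM_sec F G _ _ ⟨y, hy⟩, HomShQC.germM_res]
    rfl

theorem res_unitSec_pre (P : Y.Modules) {U V : Y.Opens} (h : V ≤ U) (φ : Γ(P, U)) :
    res ((Scheme.Modules.pullback f).obj P) (f.preimage_mono h) (LimTop.unitSec f P le_rfl φ) =
      LimTop.unitSec f P (le_rfl : f ⁻¹ᵁ V ≤ f ⁻¹ᵁ V) (res P h φ) := by
  rw [LimTop.res_unitSec, LimTop.unitSec_res]

variable (N : Y.Modules)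

/-- The module whose pulled back and pushed forward sections act on `N`. -/
abbrev homO : Y.Modules := RefHull.homSh (pushO f) N

/-- Compatibility of a value with sections of `f^* homO`. -/
def IsVal [IsAffineHom f] (V : Y.affineOpens)
    (h : Γ((Scheme.Modules.pullback f).obj (homO f N), f ⁻¹ᵁ V.1) →+ Γ(N, V.1)) : Prop :=
  ∀ (b : Γ(X, f ⁻¹ᵁ V.1)) (φ : Γ(homO f N, V.1)),
    h (b • LimTop.unitSec f (homO f N) le_rfl φ) =
      HomShQC.sec (pushO f) N φ (show Γ(pushO f, V.1) from b)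

theorem exists_isVal [IsAffineHom f] [(homO f N).IsQuasicoherent] (V : Y.affineOpens) :
    ∃ h, IsVal f N V h ∧ ∀ (M : Submodule Γ(X, f ⁻¹ᵁ V.1) Γ((Scheme.Modules.pullback f).obj (homO f N), f ⁻¹ᵁ V.1)),
      (∀ φ, LimTop.unitSec f (homO f N) le_rfl φ ∈ M) → M = ⊤ := by
  letI := (f.appLE V.1 (f ⁻¹ᵁ V.1) le_rfl).hom.toAlgebra
  letI := LimTop.secModule f (homO f N) (U := V.1) (W := f ⁻¹ᵁ V.1) le_rfl
  haveI : IsScalarTower Γ(Y, V.1) Γ(X, f ⁻¹ᵁ V.1)
      Γ((Scheme.Modules.pullback f).obj (homO f N), f ⁻¹ᵁ V.1) :=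
    IsScalarTower.of_algebraMap_smul fun _ _ => rfl
  have hb := LimTop.isBaseChange_unitSec f (homO f N) (U := V.1) (W := f ⁻¹ᵁ V.1) le_rfl V.2
    (V.2.preimage f)
  have hsm : ∀ (r : Γ(Y, V.1)) (b : Γ(X, f ⁻¹ᵁ V.1)),
      (show Γ(pushO f, V.1) from r • b) = r • (show Γ(pushO f, V.1) from b) := fun r b => by
    show (f.appLE V.1 (f ⁻¹ᵁ V.1) le_rfl r) * b = f.app V.1 r * b
    rw [Scheme.Hom.appLE_eq_app]
  let B : Γ(X, f ⁻¹ᵁ V.1) →ₗ[Γ(Y, V.1)] Γ(homO f N, V.1) →ₗ[Γ(Y, V.1)] Γ(N, V.1) :=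
    LinearMap.mk₂ _ (fun b φ => HomShQC.sec (pushO f) N φ (show Γ(pushO f, V.1) from b))
      (fun b b' φ => map_add (HomShQC.sec (pushO f) N φ) _ _)
      (fun r b φ => (congrArg _ (hsm r b)).trans (map_smul (HomShQC.sec (pushO f) N φ) r _))
      (fun b φ φ' => DFunLike.congr_fun (map_add (HomShQC.sec (pushO f) N) φ φ') (show Γ(pushO f, V.1) from b))
      (fun r b φ => DFunLike.congr_fun (map_smul (HomShQC.sec (pushO f) N) r φ) (show Γ(pushO f, V.1) from b))
  refine ⟨(TensorProduct.lift B).toAddMonoidHom.comp hb.equiv.symm.toLinearMap.toAddMonoidHom, fun b φ => ?_, fun M hM => ?_⟩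
  · have : b • LimTop.unitSec f (homO f N) le_rfl φ = hb.equiv (b ⊗ₜ φ) := (hb.equiv_tmul b φ).symm
    rw [this]
    show TensorProduct.lift B (hb.equiv.symm (hb.equiv (b ⊗ₜ φ))) = _
    rw [LinearEquiv.symm_apply_apply, TensorProduct.lift.tmul]
    rfl
  · rw [eq_top_iff]
    intro z hz
    clear hz
    induction z using hb.inductionOn with
    | zero => exact zero_mem _
    | tmul m => exact hM m
    | smul s n hn => exact M.smul_mem s hn
    | add n₁ n₂ h₁ h₂ => exact add_mem h₁ h₂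

/-- The evaluation `f_* f^* 𝓗om(f_* O, N) ⟶ N`. -/
theorem exists_ev [IsAffineHom f] [(homO f N).IsQuasicoherent] :
    ∃ (h : (Scheme.Modules.pushforward f).obj ((Scheme.Modules.pullback f).obj (homO f N)) ⟶ N),
      ∀ (V : Y.affineOpens) (b : Γ(X, f ⁻¹ᵁ V.1)) (φ : Γ(homO f N, V.1)),
        h.app V.1 (b • LimTop.unitSec f (homO f N) le_rfl φ) =
          HomShQC.sec (pushO f) N φ (show Γ(pushO f, V.1) from b) := by
  choose v hv hspan using exists_isVal f N
  let P' := (Scheme.Modules.pullback f).obj (homO f N)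
  have hcompat : ∀ (U V : Y.affineOpens) (hle : V.1 ≤ U.1) (z : Γ(P', f ⁻¹ᵁ U.1)),
      res N hle (v U z) = v V (res P' (f.preimage_mono hle) z) := by
    intro U V hle z
    let T : Submodule Γ(X, f ⁻¹ᵁ U.1) Γ(P', f ⁻¹ᵁ U.1) :=
      { carrier := {z | ∀ b : Γ(X, f ⁻¹ᵁ U.1), res N hle (v U (b • z)) = v V (res P' (f.preimage_mono hle) (b • z))}
        zero_mem' := fun b => by simp
        add_mem' := fun {z z'} hz hz' b => by simp only [smul_add, map_add, hz b, hz' b]
        smul_mem' := fun c z hz b => by rw [smul_smul]; exact hz _ }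
    have hT : T = ⊤ := hspan U T fun φ b => by
      rw [hv U b φ, sec_res, res_smul, res_unitSec_pre, hv V]
      rfl
    have := (hT ▸ Submodule.mem_top : z ∈ T) 1
    rwa [one_smul] at this
  have hglue : ∀ (U : Y.Opens) (z : Γ(P', f ⁻¹ᵁ U)), ∃ n : Γ(N, U), ∀ (V : Y.affineOpens) (hle : V.1 ≤ U),
      res N hle n = v V (res P' (f.preimage_mono hle) z) := by
    intro U z
    have hagree : ∀ (V V' : {V : Y.affineOpens // V.1 ≤ U}),
        res N (inf_le_left : V.1.1 ⊓ V'.1.1 ≤ V.1.1) (v V.1 (res P' (f.preimage_mono V.2) z)) =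
          res N (inf_le_right : V.1.1 ⊓ V'.1.1 ≤ V'.1.1) (v V'.1 (res P' (f.preimage_mono V'.2) z)) := by
      intro V V'
      refine HomShQC.sec_ext N fun y hy => ?_
      obtain ⟨W, hW, hyW, hWle⟩ := exists_isAffineOpen_mem_and_subset (x := y) (U := V.1.1 ⊓ V'.1.1) hy
      have hWle' : W ≤ V.1.1 ⊓ V'.1.1 := hWle
      rw [← HomShQC.germM_res N hWle' y hyW, ← HomShQC.germM_res N hWle' y hyW, res_res, res_res,
        hcompat V.1 ⟨W, hW⟩, hcompat V'.1 ⟨W, hW⟩, res_res, res_res]
    obtain ⟨n, hn⟩ := exists_glue N (fun V : {V : Y.affineOpens // V.1 ≤ U} => V.2) (fun y hy => by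
      obtain ⟨W, hW, hyW, hWle⟩ := exists_isAffineOpen_mem_and_subset (x := y) (U := U) hy
      exact Opens.mem_iSup.2 ⟨⟨⟨W, hW⟩, hWle⟩, hyW⟩) _ hagree
    exact ⟨n, fun V hle => hn ⟨V, hle⟩⟩
  choose a ha using hglue
  have hext : ∀ (U : Y.Opens) (s t : Γ(N, U)),
      (∀ (V : Y.affineOpens) (hle : V.1 ≤ U), res N hle s = res N hle t) → s = t := by
    intro U s t h
    refine HomShQC.sec_ext N fun y hy => ?_
    obtain ⟨W, hW, hyW, hWle⟩ := exists_isAffineOpen_mem_and_subset (x := y) (U := U) hy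
    rw [← HomShQC.germM_res N hWle y hyW, ← HomShQC.germM_res N hWle y hyW, h ⟨W, hW⟩ hWle]
  let h : (Scheme.Modules.pushforward f).obj P' ⟶ N :=
    ⟨PresheafOfModules.homMk
      { app := fun U => AddCommGrpCat.ofHom (show Γ(P', f ⁻¹ᵁ U.unop) →+ Γ(N, U.unop) from
          AddMonoidHom.mk' (a U.unop) fun s t => hext _ _ _ fun V hle => by
            rw [ha, map_add, map_add, map_add, ha, ha])
        naturality := fun {U V} i => by
          ext z
          let z' : Γ(P', f ⁻¹ᵁ U.unop) := z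
          change a V.unop (res P' (f.preimage_mono i.unop.le) z') = res N i.unop.le (a U.unop z')
          exact hext _ _ _ fun W hle => by rw [ha, res_res, res_res, ha] }
      (fun U r z => by
        let z' : Γ(P', f ⁻¹ᵁ U.unop) := z
        let r' : Γ(Y, U.unop) := r
        change a U.unop (f.app U.unop r' • z') = r' • a U.unop z'
        refine hext _ _ _ fun W hle => ?_
        rw [ha, res_smul, res_smul, ha]
        let T : Submodule Γ(X, f ⁻¹ᵁ W.1) Γ(P', f ⁻¹ᵁ W.1) :=
          { carrier := {w | ∀ b : Γ(X, f ⁻¹ᵁ W.1),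
              v W ((rres (f.preimage_mono hle) (f.app U.unop r') * b) • w) = rres hle r' • v W (b • w)}
            zero_mem' := fun b => by simp
            add_mem' := fun {w w'} hw hw' b => by simp only [smul_add, map_add, hw b, hw' b]
            smul_mem' := fun c w hw b => by rw [smul_smul, smul_smul, mul_assoc]; exact hw _ }
        have hT : T = ⊤ := hspan W T fun φ b => by
          rw [hv W _ φ, hv W b φ, ← map_smul]
          congr 1
          show rres (f.preimage_mono hle) (f.app U.unop r') * b = f.app W.1 (rres hle r') * b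
          congr 1
          exact (ConcreteCategory.congr_hom (f.naturality (homOfLE hle).op) r').symm
        have := (hT ▸ Submodule.mem_top : res P' (f.preimage_mono hle) z' ∈ T) 1
        rwa [mul_one, one_smul] at this)⟩
  refine ⟨h, fun V b φ => ?_⟩
  have e := ha V.1 (b • LimTop.unitSec f (homO f N) le_rfl φ) V le_rfl
  rw [res_self, res_self, hv] at e
  exact e

end Groth.Agent.GenFam

end
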