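import Groth.Agent.GenFam.PowerStalk
import Groth.Agent.Props.QApproxMain
import Groth.Agent.QCoh.Qcqs

/-!
# Extending a section over an open to a morphism from a high tensor power

If a linear form `π` on `F` is surjective on the stalks exactly over an open `U`, then a section `s` of a
quasi-coherent module over `U` extends, after multiplying with `π ⊗ ⋯ ⊗ π`, to a morphism from a high
tensor power of `F`.
-/

set_option autoImplicit false
set_option backward.isDefEq.respectTransparency false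
set_option linter.style.haveILetI false

universe u

open CategoryTheory CategoryTheory.Limits AlgebraicGeometry TopologicalSpace Opposite TensorProduct

noncomputable section

namespace Groth.Agent.GenFam

open Groth.Agent.Props Groth.Agent.PullStalk.Sky Groth.Agent.PullStalk.Exact Groth.Agent.Omega.Stalks
  Groth.Agent.TensorExt Groth.Agent.ExtFilt.Stalkwise Groth.Agent.QCoh Groth.Agent.Props.QStalk
  Groth.Agent.Props.SubMod

variable {X : Scheme.{u}} {F M : X.Modules}

/-- A section's value under a linear form, as a function. -/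
abbrev fn (π : F ⟶ Coh.structureModule X) (W : X.Opens) (q : Γ(F, W)) : Γ(X, W) := π.app W q

theorem rS_germ' (π : F ⟶ Coh.structureModule X) {V : X.Opens} (x : X) (hx : x ∈ V) (q : Γ(F, V)) :
    rS π x (germM F V x hx q) = X.presheaf.germ V x hx (fn π V q) :=
  rS_germ π x hx q

theorem fn_sum_smul (π : F ⟶ Coh.structureModule X) {W : X.Opens} {ι : Type*} (t : Finset ι)
    (a : ι → Γ(X, W)) (q : ι → Γ(F, W)) :
    fn π W (∑ j ∈ t, a j • q j) = ∑ j ∈ t, a j * fn π W (q j) :=
  (map_sum (π.app W).hom _ _).trans (Finset.sum_congr rfl fun j _ => Scheme.Modules.Hom.app_smul π (a j) (q j))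

theorem sum_mul_prod_update {A : Type*} [CommRing A] {m n : ℕ} (f a : Fin m → A)
    (h : ∑ j, a j * f j = 0) (J : Fin n → Fin m) (i : Fin n) :
    ∑ j, a j * ∏ k, f (Function.update J i j k) = 0 := by
  classical
  have hj : ∀ j, ∏ k, f (Function.update J i j k) = f j * ∏ k ∈ Finset.univ \ {i}, f (J k) := by
    intro j
    rw [show (fun k => f (Function.update J i j k)) = Function.update (f ∘ J) i (f j) from
      Function.comp_update f J i j, Finset.prod_update_of_mem (Finset.mem_univ i)]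
    rfl
  simp only [hj, ← mul_assoc, ← Finset.sum_mul, h, zero_mul]

section Affine

variable [F.IsQuasicoherent] {W : X.Opens} {m : ℕ} {q : Fin m → Γ(F, W)}

/-- Generators of sections over an affine open generate the stalks. -/
theorem span_germ_eq_top (hW : IsAffineOpen W) (hq : Submodule.span Γ(X, W) (Set.range q) = ⊤)
    {y : X} (hy : y ∈ W) :
    Submodule.span (X.presheaf.stalk y) (Set.range fun j => germM F W y hy (q j)) = ⊤ := by
  rw [eq_top_iff]
  intro t _
  letI := moduleSections F hy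
  letI := X.presheaf.algebra_section_stalk ⟨y, hy⟩
  haveI := isLocalizedModule_germLin F hy hW
  haveI : IsLocalization.AtPrime (X.presheaf.stalk y) (hW.primeIdealOf ⟨y, hy⟩).asIdeal :=
    hW.isLocalization_stalk ⟨y, hy⟩
  obtain ⟨⟨v, a⟩, e⟩ := IsLocalizedModule.surj (hW.primeIdealOf ⟨y, hy⟩).asIdeal.primeCompl
    (germLin F hy) t
  have hv := germ_mem_spanGerm_of_mem_span (s := Set.range q) (hq ▸ Submodule.mem_top : v ∈ _) y hy
  have ha : IsUnit (algebraMap Γ(X, W) (X.presheaf.stalk y) a.1) :=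
    IsLocalization.map_units (X.presheaf.stalk y) a
  obtain ⟨u, hu⟩ := ha
  have h2 : (u : X.presheaf.stalk y) • t = germM F W y hy v := by
    rw [hu]
    exact e
  rw [spanGerm, ← Set.range_comp] at hv
  have h3 := Submodule.smul_mem _ (↑u⁻¹ : X.presheaf.stalk y) (h2 ▸ hv)
  rwa [smul_smul, Units.inv_mul, one_smul] at h3

/-- Relations between germs of generators come from relations between sections. -/
theorem relation_stalk (hW : IsAffineOpen W) (T : Fin m → Γ(M, W))
    (hT : ∀ c : Fin m → Γ(X, W), (∑ j, c j • q j) = 0 → (∑ j, c j • T j) = 0)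
    {y : X} (hy : y ∈ W) (a : Fin m → X.presheaf.stalk y)
    (ha : (∑ j, a j • germM F W y hy (q j)) = 0) :
    (∑ j, a j • germM M W y hy (T j)) = 0 := by
  letI := moduleSections F hy
  letI := moduleSections M hy
  letI := X.presheaf.algebra_section_stalk ⟨y, hy⟩
  haveI := isLocalizedModule_germLin F hy hW
  haveI : IsLocalization.AtPrime (X.presheaf.stalk y) (hW.primeIdealOf ⟨y, hy⟩).asIdeal :=
    hW.isLocalization_stalk ⟨y, hy⟩
  let P := (hW.primeIdealOf ⟨y, hy⟩).asIdeal.primeCompl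
  obtain ⟨b, hb⟩ := IsLocalization.exist_integer_multiples_of_finite P a
  choose c hc using hb
  have hc' : ∀ j, X.presheaf.germ W y hy (c j) = X.presheaf.germ W y hy b.1 * a j := fun j =>
    (hc j).trans (Algebra.smul_def _ _)
  have key : ∀ (N : X.Modules) (v : Fin m → Γ(N, W)) (p : Γ(X, W)),
      germM N W y hy (∑ j, (p * c j) • v j) =
        (X.presheaf.germ W y hy p * X.presheaf.germ W y hy b.1) • ∑ j, a j • germM N W y hy (v j) := by
    intro N v p
    rw [Finset.smul_sum]
    refine (map_sum (N.presheaf.germ W y hy).hom _ _).trans (Finset.sum_congr rfl fun j _ => ?_)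
    refine (germM_smul N W y hy _ _).trans ?_
    rw [map_mul, hc', smul_smul, mul_assoc]
  have h0 : germLin F hy (∑ j, c j • q j) = germLin F hy 0 := by
    rw [map_zero]
    show germM F W y hy (∑ j, c j • q j) = 0
    have h := key F q 1
    simp only [one_mul] at h
    rw [h, ha, smul_zero]
  obtain ⟨p, hp⟩ := IsLocalizedModule.exists_of_eq (S := P) h0
  rw [smul_zero, Submonoid.smul_def, Finset.smul_sum] at hp
  simp only [smul_smul] at hp
  have hz := (key M T p.1).symm.trans
    ((congrArg (germM M W y hy) (hT _ hp)).trans (map_zero (M.presheaf.germ W y hy).hom))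
  exact ((IsLocalization.map_units (X.presheaf.stalk y) p).mul
    (IsLocalization.map_units (X.presheaf.stalk y) b)).smul_eq_zero.1 hz

end Affine

/-- A family of linear maps from the stalks of a tensor power. -/
abbrev Fam (F M : X.Modules) (n : ℕ) : Type u :=
  ∀ x : X, (CohB1.tensorPow F n).presheaf.stalk x →ₗ[X.presheaf.stalk x] M.presheaf.stalk x

/-- A family given by sections near the points of `W`, equal to `π ⊗ ⋯ ⊗ π ⊗ s` over `U`. -/
structure Good (π : F ⟶ Coh.structureModule X) {U : X.Opens} (s : Γ(M, U)) (n : ℕ) (W : X.Opens)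
    (φ : Fam F M n) : Prop where
  loc : ∀ x ∈ W, ∀ t, Loc φ x t
  eq : ∀ x ∈ W, ∀ (hx : x ∈ U) t, φ x t = eps (rS π x) n t • germM M U x hx s

variable {π : F ⟶ Coh.structureModule X} {U : X.Opens} {s : Γ(M, U)}

theorem Good.pad_succ {n : ℕ} {W : X.Opens} {φ : Fam F M n} (h : Good π s n W φ) :
    Good π s (n + 1) W fun x => pad (rS π x) (φ x) := by
  refine ⟨fun x hx t => ?_, fun x hx hxU t => ?_⟩
  · obtain ⟨z, rfl⟩ := (prEquiv (CohB1.tensorPow F n) F x).surjective t
    induction z using TensorProduct.induction_on with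
    | zero =>
      rw [map_zero]
      exact loc_zero x
    | add a b ha hb =>
      rw [map_add]
      exact loc_add ha hb
    | tmul a b =>
      obtain ⟨V, hxV, mm, nn, rfl, hn⟩ := h.loc x hx a
      obtain ⟨V', hxV', b, rfl⟩ := exists_germM_eq F x b
      refine ⟨V ⊓ V', ⟨hxV, hxV'⟩,
        SecTwist.tmul (CohB1.tensorPow F n) F (V ⊓ V') (res _ inf_le_left mm) (res F inf_le_right b),
        fn π (V ⊓ V') (res F inf_le_right b) • res M inf_le_left nn, ?_, fun y hy => ?_⟩
      · rw [prEquiv_tmul]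
        refine (pr_germ (V ⊓ V') x ⟨hxV, hxV'⟩ _ _).trans ?_
        exact congrArg₂ (pr _ F x) (germM_res' _ inf_le_left x ⟨hxV, hxV'⟩ mm)
          (germM_res' F inf_le_right x ⟨hxV, hxV'⟩ b)
      · refine ((congrArg (pad (rS π y) (φ y)) (pr_germ (V ⊓ V') y hy _ _)).trans (pad_pr _ _ _ _)).trans
          (Eq.trans ?_ (germM_smul M (V ⊓ V') y hy _ _).symm)
        rw [rS_germ']
        refine congrArg₂ (· • ·) rfl ?_
        exact (congrArg (φ y) (germM_res' _ inf_le_left y hy mm)).trans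
          ((hn y hy.1).trans (germM_res' M inf_le_left y hy nn).symm)
  · obtain ⟨z, rfl⟩ := (prEquiv (CohB1.tensorPow F n) F x).surjective t
    induction z using TensorProduct.induction_on with
    | zero => rw [map_zero, map_zero, map_zero, zero_smul]
    | add a b ha hb => rw [map_add, map_add, map_add, add_smul, ha, hb]
    | tmul a b =>
      rw [prEquiv_tmul]
      show pad (rS π x) (φ x) (pr _ F x a b) = pad (rS π x) (eps (rS π x) n) (pr _ F x a b) • _
      rw [pad_pr, pad_pr, h.eq x hx hxU, smul_assoc]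

theorem Good.padN {n : ℕ} {W : X.Opens} {φ : Fam F M n} (h : Good π s n W φ) :
    ∀ l, Good π s (n + l) W fun x => GenFam.padN (rS π x) n l (φ x)
  | 0 => h
  | l + 1 => (Good.padN h l).pad_succ

theorem Good.mono {n n' : ℕ} {W : X.Opens} {φ : Fam F M n} (h : Good π s n W φ) (hn : n ≤ n') :
    ∃ φ' : Fam F M n', Good π s n' W φ' := by
  induction hn with
  | refl => exact ⟨φ, h⟩
  | step _ ih =>
    obtain ⟨φ', h'⟩ := ih
    exact ⟨_, h'.pad_succ⟩

/-- The values at germs of a section glue to a section. -/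
theorem exists_sec {n : ℕ} {W : X.Opens} {φ : Fam F M n} (hφ : ∀ x ∈ W, ∀ t, Loc φ x t)
    (mm : Γ(CohB1.tensorPow F n, W)) :
    ∃ v : Γ(M, W), ∀ y (hy : y ∈ W), germM M W y hy v = φ y (germM _ W y hy mm) := by
  have hloc : ∀ x : W, ∃ (V : X.Opens) (_ : x.1 ∈ V) (hVW : V ≤ W) (v : Γ(M, V)),
      ∀ y (hy : y ∈ V), germM M V y hy v = φ y (germM _ W y (hVW hy) mm) := by
    rintro ⟨x, hx⟩
    obtain ⟨V, hxV, m', n', he, hV⟩ := hφ x hx (germM _ W x hx mm)
    obtain ⟨V', hxV', iV, iW, e⟩ := (CohB1.tensorPow F n).presheaf.germ_eq x hxV hx m' mm he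
    refine ⟨V', hxV', iW.le, res M iV.le n', fun y hy => ?_⟩
    refine (germM_res' M iV.le y hy n').trans ((hV y (iV.le hy)).symm.trans (congrArg (φ y) ?_))
    refine ((germM_res' _ iV.le y hy m').symm.trans ?_).trans (germM_res' _ iW.le y hy mm)
    exact congrArg (germM _ V' y hy) e
  choose V hxV hVW v hv using hloc
  obtain ⟨w, hw⟩ := exists_glue M hVW (fun y hy => Opens.mem_iSup.mpr ⟨⟨y, hy⟩, hxV ⟨y, hy⟩⟩) v
    fun a b => sec_ext fun y hy => by
      rw [germM_res', germM_res', hv, hv]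
  refine ⟨w, fun y hy => ?_⟩
  rw [← hv ⟨y, hy⟩ y (hxV ⟨y, hy⟩), ← hw ⟨y, hy⟩, germM_res']

/-- A function in the image of `π` is invertible only over `U`. -/
theorem basicOpen_le (hU : ∀ x, Function.Surjective (rS π x) → x ∈ U) {W : X.Opens} (q : Γ(F, W)) :
    X.basicOpen (fn π W q) ≤ U ⊓ W := fun y hy => by
  have hyW : y ∈ W := X.basicOpen_le _ hy
  refine ⟨hU y fun a => ?_, hyW⟩
  obtain ⟨u, hu⟩ := (X.mem_basicOpen _ y hyW).mp hy
  refine ⟨(a * (↑u⁻¹ : X.presheaf.stalk y)) • germM F W y hyW q, ?_⟩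
  rw [map_smul, rS_germ', ← hu, smul_eq_mul, mul_assoc, Units.inv_mul, mul_one]

section Quasicoherent

variable [F.IsQuasicoherent] [M.IsQuasicoherent] [CompactSpace X] [QuasiSeparatedSpace X]

/-- Two families agree after padding. -/
theorem exists_padN_eq (hU : ∀ x, Function.Surjective (rS π x) → x ∈ U) {n : ℕ} {φ φ' : Fam F M n}
    {W : X.Opens} (hW : IsAffineOpen W) [Module.Finite Γ(X, W) Γ(F, W)]
    (h : Good π s n W φ) (h' : Good π s n W φ') :
    ∃ l₀, ∀ l, l₀ ≤ l → ∀ y ∈ W,
      GenFam.padN (rS π y) n l (φ y) = GenFam.padN (rS π y) n l (φ' y) := by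
  classical
  obtain ⟨m, q, hq⟩ := Module.Finite.exists_fin (R := Γ(X, W)) (M := Γ(F, W))
  choose v hv using fun J : Fin n → Fin m => exists_sec h.loc (KoszTw.tprod F n W (q ∘ J))
  choose v' hv' using fun J : Fin n → Fin m => exists_sec h'.loc (KoszTw.tprod F n W (q ∘ J))
  let f : Fin m → Γ(X, W) := fun j => fn π W (q j)
  have hkill : ∀ p : Fin m × (Fin n → Fin m), ∃ e : ℕ, f p.1 ^ e • (v p.2 - v' p.2) = 0 := by
    rintro ⟨j, J⟩
    refine exists_pow_smul_eq_zero M hW.isCompact (f j) _ ?_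
    rw [map_sub, sub_eq_zero]
    refine sec_ext fun y hy => ?_
    rw [germM_res', germM_res', hv, hv', h.eq y (X.basicOpen_le _ hy) (basicOpen_le hU (q j) hy).1,
      h'.eq y (X.basicOpen_le _ hy) (basicOpen_le hU (q j) hy).1]
  choose e he using hkill
  obtain ⟨E, hE⟩ := Finite.exists_le e
  refine ⟨m * E + 1, fun l hl y hy => ?_⟩
  refine LinearMap.ext_on (span_pw (span_germ_eq_top hW hq hy) (n + l)) ?_
  rintro _ ⟨J', rfl⟩
  obtain ⟨j, c, hc⟩ := exists_pow_dvd_prod E hl f fun i : Fin l => J' (Fin.natAdd n i)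
  dsimp only
  rw [padN_pw, padN_pw]
  simp only [Function.comp_apply, rS_germ']
  rw [← map_prod, show (∏ i : Fin l, fn π W (q (J' (Fin.natAdd n i)))) = f j ^ E * c from hc]
  have hpw : pw F y n (fun i => germM F W y hy (q (J' (Fin.castAdd l i)))) =
      germM (CohB1.tensorPow F n) W y hy (KoszTw.tprod F n W (q ∘ fun i => J' (Fin.castAdd l i))) :=
    (pw_germ F W y hy n _).symm
  rw [hpw, ← hv, ← hv', ← germM_smul, ← germM_smul]
  refine congrArg (germM M W y hy) ?_
  set J := fun i => J' (Fin.castAdd l i)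
  rw [← sub_eq_zero, ← smul_sub, mul_comm, mul_smul, ← Nat.sub_add_cancel (hE (j, J)), pow_add,
    mul_smul, he (j, J), smul_zero, smul_zero]

/-- The same over a compact open. -/
theorem exists_padN_eq_compact (hU : ∀ x, Function.Surjective (rS π x) → x ∈ U) (hF : CohB1.IsFP F)
    {n : ℕ} {φ φ' : Fam F M n} {W : X.Opens} (hW : IsCompact (W : Set X))
    (h : Good π s n W φ) (h' : Good π s n W φ') :
    ∃ l₀, ∀ l, l₀ ≤ l → ∀ y ∈ W,
      GenFam.padN (rS π y) n l (φ y) = GenFam.padN (rS π y) n l (φ' y) := by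
  obtain ⟨τ, hτ, e⟩ := isCompact_iff_finite_and_eq_biUnion_affineOpens.mp hW
  have hle (V : τ) : V.1.1 ≤ W := e ▸ le_iSup₂_of_le V.1 V.2 le_rfl
  have := hτ.to_subtype
  have hVτ : ∀ V : τ, ∃ l₀, ∀ l, l₀ ≤ l → ∀ y ∈ (V.1.1 : X.Opens),
      GenFam.padN (rS π y) n l (φ y) = GenFam.padN (rS π y) n l (φ' y) := fun V => by
    have := (QFP.isFP_iff F).mp hF V.1.1 V.1.2
    exact exists_padN_eq hU V.1.2 ⟨fun x hx => h.loc x (hle V hx), fun x hx => h.eq x (hle V hx)⟩
      ⟨fun x hx => h'.loc x (hle V hx), fun x hx => h'.eq x (hle V hx)⟩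
  choose l₀ hl₀ using hVτ
  obtain ⟨L, hL⟩ := Finite.exists_le l₀
  refine ⟨L, fun l hl y hy => ?_⟩
  rw [e] at hy
  obtain ⟨V, hV⟩ := Opens.mem_iSup.mp hy
  obtain ⟨hVτ, hyV⟩ := Opens.mem_iSup.mp hV
  exact hl₀ ⟨V, hVτ⟩ l ((hL _).trans hl) y hyV

/-- Existence over an affine open. -/
theorem exists_local (hU : ∀ x, Function.Surjective (rS π x) → x ∈ U) (hF : CohB1.IsFP F)
    {W : X.Opens} (hW : IsAffineOpen W) (hUW : IsCompact ((U ⊓ W : X.Opens) : Set X)) :
    ∃ (N : ℕ) (φ : Fam F M N), Good π s N W φ := by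
  classical
  haveI := (QFP.isFP_iff F).mp hF W hW
  obtain ⟨m, q, hq⟩ := Module.Finite.exists_fin (R := Γ(X, W)) (M := Γ(F, W))
  let g := Fintype.linearCombination Γ(X, W) q
  have hg : Function.Surjective g :=
    LinearMap.range_eq_top.1 (by rw [Fintype.range_linearCombination, hq])
  obtain ⟨R₀, hR₀⟩ := Module.FinitePresentation.fg_ker g hg
  let f : Fin m → Γ(X, W) := fun j => fn π W (q j)
  let s' : Γ(M, U ⊓ W) := res M inf_le_left s
  have hker : ∀ a ∈ LinearMap.ker g, ∑ j, a j * f j = 0 := fun a ha => by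
    rw [LinearMap.mem_ker, Fintype.linearCombination_apply] at ha
    exact (fn_sum_smul π Finset.univ a q).symm.trans
      ((congrArg (fn π W) ha).trans (map_zero (π.app W).hom))
  -- lifts of `f j ^ k • s`
  have hlift : ∀ j, ∃ (k : ℕ) (t : Γ(M, W)),
      res M (inf_le_right : U ⊓ W ≤ W) t = rres (inf_le_right : U ⊓ W ≤ W) (f j) ^ k • s' := by
    intro j
    have hD := basicOpen_le hU (q j)
    obtain ⟨k, t, ht⟩ := (isLocalizingAt M hW (f j)).surj (res M (hD.trans inf_le_left) s)
    let f' := rres (inf_le_right : U ⊓ W ≤ W) (f j)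
    have hD' : X.basicOpen f' ≤ X.basicOpen (f j) := (X.basicOpen_res _ _).le.trans inf_le_right
    obtain ⟨k', hk'⟩ := exists_pow_smul_eq_zero M hUW f'
      (res M (inf_le_right : U ⊓ W ≤ W) t - f' ^ k • s') (by
        have := congrArg (res M hD') ht
        simp only [f, f', s', map_sub, res_res, res_smul, map_pow, rres_rres] at this ⊢
        rw [sub_eq_zero]
        exact this)
    refine ⟨k' + k, f j ^ k' • t, ?_⟩
    rw [res_smul, map_pow, pow_add, mul_smul]
    rw [smul_sub, sub_eq_zero] at hk'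
    exact hk'
  choose k t ht using hlift
  obtain ⟨K, hK⟩ := Finite.exists_le k
  let N := m * K + 1
  -- sections `A J` restricting to `∏ f (J i) • s`
  have hA : ∀ J : Fin N → Fin m, ∃ A : Γ(M, W),
      res M (inf_le_right : U ⊓ W ≤ W) A = rres (inf_le_right : U ⊓ W ≤ W) (∏ i, f (J i)) • s' := by
    intro J
    obtain ⟨j, hj⟩ := exists_pow_dvd_prod K (Nat.lt_succ_self (m * K)) f J
    obtain ⟨c, hc⟩ := (pow_dvd_pow (f j) (hK j)).trans hj
    refine ⟨c • t j, ?_⟩
    rw [res_smul, ht, smul_smul, hc, map_mul, map_pow, mul_comm]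
  choose A hA using hA
  let L : (Fin N → Fin m) × Fin N → ((Fin m → Γ(X, W)) →ₗ[Γ(X, W)] Γ(M, W)) := fun p =>
    Fintype.linearCombination Γ(X, W) fun j => A (Function.update p.1 p.2 j)
  have hrel : ∀ (a : Fin m → Γ(X, W)), a ∈ LinearMap.ker g → ∀ p,
      res M (inf_le_right : U ⊓ W ≤ W) (L p a) = 0 := by
    intro a ha p
    simp only [L, Fintype.linearCombination_apply, map_sum, res_smul, hA, smul_smul, ← map_mul,
      ← Finset.sum_smul]
    rw [← map_sum, sum_mul_prod_update f a (hker a ha), map_zero, zero_smul]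
  have hkill : ∀ r : R₀ × ((Fin N → Fin m) × Fin N) × Fin m, ∃ e : ℕ,
      f r.2.2 ^ e • L r.2.1 r.1.1 = 0 := by
    rintro ⟨⟨a, ha⟩, p, j⟩
    refine exists_pow_smul_eq_zero M hW.isCompact (f j) _ ?_
    have h := congrArg (res M (basicOpen_le hU (q j))) (hrel a (hR₀ ▸ Submodule.subset_span ha) p)
    rwa [res_res, map_zero] at h
  choose e he using hkill
  obtain ⟨E, hE⟩ := Finite.exists_le e
  have hkill' : ∀ a ∈ LinearMap.ker g, ∀ p j, f j ^ E • L p a = 0 := by
    intro a ha p j
    have hle : LinearMap.ker g ≤ LinearMap.ker (f j ^ E • L p) := by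
      rw [← hR₀, Submodule.span_le]
      intro a ha
      rw [SetLike.mem_coe, LinearMap.mem_ker, LinearMap.smul_apply,
        ← Nat.sub_add_cancel (hE (⟨a, ha⟩, p, j)), pow_add, mul_smul, he (⟨a, ha⟩, p, j), smul_zero]
    exact hle ha
  let l := m * E + 1
  let T : (Fin (N + l) → Fin m) → Γ(M, W) := fun J =>
    (∏ i : Fin l, f (J (Fin.natAdd N i))) • A fun i => J (Fin.castAdd l i)
  have hT : ∀ (i : Fin (N + l)) (J : Fin (N + l) → Fin m) (c : Fin m → Γ(X, W)),
      (∑ j, c j • q j) = 0 → (∑ j, c j • T (Function.update J i j)) = 0 := by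
    intro i J c hc
    have hcg : c ∈ LinearMap.ker g := by
      rw [LinearMap.mem_ker, Fintype.linearCombination_apply]
      exact hc
    induction i using Fin.addCases with
    | left i =>
      have e1 : ∀ (j : Fin m) (x : Fin l),
          Function.update J (Fin.castAdd l i) j (Fin.natAdd N x) = J (Fin.natAdd N x) := fun j x =>
        Function.update_of_ne (by
          intro h
          have := congrArg Fin.val h
          simp only [Fin.val_natAdd, Fin.val_castAdd] at this
          omega) _ _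
      have e2 : ∀ j : Fin m, (fun x => Function.update J (Fin.castAdd l i) j (Fin.castAdd l x)) =
          Function.update (fun x => J (Fin.castAdd l x)) i j := fun j =>
        Function.update_comp_eq_of_injective J (Fin.castAdd_injective N l) i j
      simp only [T, e1, e2]
      obtain ⟨j, d, hd⟩ := exists_pow_dvd_prod E (Nat.lt_succ_self (m * E)) f
        fun x : Fin l => J (Fin.natAdd N x)
      have h := hkill' c hcg (fun x => J (Fin.castAdd l x), i) j
      simp only [L, Fintype.linearCombination_apply, Finset.smul_sum] at h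
      rw [hd]
      calc ∑ j_1, c j_1 • ((f j ^ E * d) • A (Function.update (fun x => J (Fin.castAdd l x)) i j_1))
          = d • ∑ j_1, f j ^ E • c j_1 • A (Function.update (fun x => J (Fin.castAdd l x)) i j_1) := by
            rw [Finset.smul_sum]
            exact Finset.sum_congr rfl fun x _ => by simp only [smul_smul]; congr 1; ring
        _ = 0 := by rw [h, smul_zero]
    | right i =>
      have e1 : ∀ (j : Fin m) (x : Fin N),
          Function.update J (Fin.natAdd N i) j (Fin.castAdd l x) = J (Fin.castAdd l x) := fun j x =>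
        Function.update_of_ne (by
          intro h
          have := congrArg Fin.val h
          simp only [Fin.val_natAdd, Fin.val_castAdd] at this
          omega) _ _
      have e2 : ∀ (j : Fin m) (x : Fin l), Function.update J (Fin.natAdd N i) j (Fin.natAdd N x) =
          Function.update (fun x => J (Fin.natAdd N x)) i j x := fun j x =>
        congrFun (Function.update_comp_eq_of_injective J (Fin.natAdd_injective l N) i j) x
      simp only [T, e1, e2, smul_smul, ← Finset.sum_smul]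
      rw [sum_mul_prod_update f c (hker c hcg), zero_smul]
  have hφ : ∀ y, ∃ φy : (CohB1.tensorPow F (N + l)).presheaf.stalk y →ₗ[X.presheaf.stalk y]
      M.presheaf.stalk y, ∀ (hy : y ∈ W) (J : Fin (N + l) → Fin m),
        φy (pw F y (N + l) fun i => germM F W y hy (q (J i))) = germM M W y hy (T J) := by
    intro y
    by_cases hy : y ∈ W
    · obtain ⟨φy, hφy⟩ := exists_lin (span_germ_eq_top hW hq hy) (N + l)
        (fun J => germM M W y hy (T J))
        fun i J a ha => relation_stalk hW (fun j => T (Function.update J i j)) (hT i J) hy a ha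
      exact ⟨φy, fun _ J => hφy J⟩
    · exact ⟨0, fun h => absurd h hy⟩
  choose φ hφ using hφ
  refine ⟨N + l, φ, ⟨fun x hx t => ?_, fun x hx hxU t => ?_⟩⟩
  · have ht' := (span_pw (span_germ_eq_top hW hq hx) (N + l)).ge (Submodule.mem_top (x := t))
    induction ht' using Submodule.span_induction with
    | mem t ht' =>
      obtain ⟨J, rfl⟩ := ht'
      refine ⟨W, hx, KoszTw.tprod F (N + l) W (q ∘ J), T J, pw_germ F W x hx _ _, fun y hy => ?_⟩
      rw [pw_germ]
      exact hφ y hy J
    | zero => exact loc_zero x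
    | add _ _ _ _ ha hb => exact loc_add ha hb
    | smul c _ _ ha => exact loc_smul c ha
  · have heq : φ x = LinearMap.toSpanSingleton _ _ (germM M U x hxU s) ∘ₗ eps (rS π x) (N + l) := by
      refine LinearMap.ext_on (span_pw (span_germ_eq_top hW hq hx) (N + l)) ?_
      rintro _ ⟨J, rfl⟩
      refine (hφ x hx J).trans ?_
      rw [LinearMap.comp_apply, eps_pw, LinearMap.toSpanSingleton_apply]
      simp only [Function.comp_apply, rS_germ']
      rw [← map_prod, Fin.prod_univ_add]
      have h1 : res M (inf_le_right : U ⊓ W ≤ W) (T J) = rres (inf_le_right : U ⊓ W ≤ W)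
          ((∏ i, f (J (Fin.castAdd l i))) * ∏ i, f (J (Fin.natAdd N i))) • s' := by
        simp only [T, res_smul, hA, smul_smul, ← map_mul, mul_comm]
      have hxUW : x ∈ U ⊓ W := ⟨hxU, hx⟩
      rw [← germM_res' M (inf_le_right : U ⊓ W ≤ W) x hxUW (T J), h1, germM_smul]
      refine congrArg₂ (· • ·) ?_ (germM_res' M inf_le_left x hxUW s)
      exact X.presheaf.germ_res_apply _ x hxUW _
    rw [heq]
    rfl

/-- The extension of a section to morphisms from all high tensor powers. -/
theorem exists_hom_of_section (hU : ∀ x, Function.Surjective (rS π x) ↔ x ∈ U) (hF : CohB1.IsFP F)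
    (hUc : IsCompact (U : Set X)) (s : Γ(M, U)) :
    ∃ n₀, ∀ n, n₀ ≤ n → ∃ h : CohB1.tensorPow F n ⟶ M, ∀ x (hx : x ∈ U),
      germM M U x hx s ∈ LinearMap.range (stalkLin h x) := by
  classical
  obtain ⟨σ, hσ⟩ := Props.QApproxMain.exists_affine_finite_cover X
  have hUW : ∀ W : σ, IsCompact ((U ⊓ W.1.1 : X.Opens) : Set X) := fun W =>
    QuasiSeparatedSpace.inter_isCompact _ _ U.isOpen hUc W.1.1.isOpen W.1.2.isCompact
  choose N φ hφ using fun W : σ => exists_local (π := π) (s := s) (fun x => (hU x).1) hF W.1.2 (hUW W)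
  obtain ⟨N₁, hN₁⟩ := Finite.exists_le N
  choose φ₁ hφ₁ using fun W : σ => (hφ W).mono (hN₁ W)
  have hpair : ∀ p : σ × σ, ∃ l₀, ∀ l, l₀ ≤ l → ∀ y ∈ p.1.1.1 ⊓ p.2.1.1,
      GenFam.padN (rS π y) N₁ l (φ₁ p.1 y) = GenFam.padN (rS π y) N₁ l (φ₁ p.2 y) := fun p =>
    exists_padN_eq_compact (fun x => (hU x).1) hF
      (QuasiSeparatedSpace.inter_isCompact _ _ p.1.1.1.isOpen p.1.1.2.isCompact p.2.1.1.isOpen
        p.2.1.2.isCompact)
      ⟨fun x hx => (hφ₁ p.1).loc x hx.1, fun x hx => (hφ₁ p.1).eq x hx.1⟩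
      ⟨fun x hx => (hφ₁ p.2).loc x hx.2, fun x hx => (hφ₁ p.2).eq x hx.2⟩
  choose l₀ hl₀ using hpair
  obtain ⟨L, hL⟩ := Finite.exists_le l₀
  choose a haσ hxa using hσ
  let Φ : Fam F M (N₁ + L) := fun x => GenFam.padN (rS π x) N₁ L (φ₁ ⟨a x, haσ x⟩ x)
  have hΦ : Good π s (N₁ + L) ⊤ Φ := by
    refine ⟨fun x _ t => ?_, fun x _ hx t => ((hφ₁ ⟨a x, haσ x⟩).padN L).eq x (hxa x) hx t⟩
    obtain ⟨V, hxV, mm, nn, rfl, hV⟩ := ((hφ₁ ⟨a x, haσ x⟩).padN L).loc x (hxa x) t
    refine ⟨V ⊓ (a x).1, ⟨hxV, hxa x⟩, res _ inf_le_left mm, res M inf_le_left nn,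
      germM_res' _ inf_le_left x _ mm, fun y hy => ?_⟩
    rw [germM_res', germM_res', ← hV y hy.1]
    exact LinearMap.congr_fun
      (hl₀ (⟨a y, haσ y⟩, ⟨a x, haσ x⟩) L (hL _) y ⟨hxa y, hy.2⟩) _
  refine ⟨N₁ + L, fun n hn => ?_⟩
  obtain ⟨Φ', hΦ'⟩ := hΦ.mono hn
  obtain ⟨h, hh⟩ := exists_hom fun x t => hΦ'.loc x trivial t
  refine ⟨h, fun x hx => ?_⟩
  obtain ⟨t, ht⟩ := eps_surjective (rS π x) ((hU x).2 hx) n 1
  exact ⟨t, by rw [hh, hΦ'.eq x trivial hx, ht, one_smul]⟩

end Quasicoherent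

end Groth.Agent.GenFam

end
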