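import Groth.Agent.GenFam.PowerExt
import Groth.Agent.Props.SubIdeal
import Groth.Agent.Props.SubExt

/-!
# A finitely presented module with linear forms surjective exactly over given affine opens;
tensor powers surject on finitely presented modules
-/

set_option autoImplicit false
set_option backward.isDefEq.respectTransparency false
set_option linter.style.haveILetI false

universe u

open CategoryTheory CategoryTheory.Limits AlgebraicGeometry TopologicalSpace Opposite

noncomputable section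

namespace Groth.Agent.GenFam

open Groth.Agent.Props Groth.Agent.PullStalk.Sky Groth.Agent.PullStalk.Exact Groth.Agent.Omega.Stalks
  Groth.Agent.TensorExt Groth.Agent.ExtFilt.Stalkwise Groth.Agent.QCoh Groth.Agent.Props.SubMod
  Groth.Agent.Props.SubSheaf

variable {X : Scheme.{u}}

theorem fpOn_empty (M : X.Modules) : QApprox.FPOn M ⊥ := fun V _ hle => by
  have hV0 : V = ⊥ := le_bot_iff.mp hle
  subst hV0
  have : Subsingleton Γ(X, (⊥ : X.Opens)) :=
    CommRingCat.subsingleton_of_isTerminal (X.sheaf.isTerminalOfEqEmpty rfl)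
  have : Subsingleton Γ(M, (⊥ : X.Opens)) := Module.subsingleton Γ(X, (⊥ : X.Opens)) _
  exact Module.finitePresentation_of_projective _ _

variable [CompactSpace X] [QuasiSeparatedSpace X]

/-- A linear form on a finitely presented module, surjective exactly over a given affine open. -/
theorem exists_form {W : X.Opens} (hW : IsAffineOpen W) :
    ∃ (P : X.Modules) (π : P ⟶ Coh.structureModule X), P.IsQuasicoherent ∧ QApprox.FPOn P ⊤ ∧
      ∀ x, Function.Surjective (rS π x) ↔ x ∈ W := by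
  classical
  have hS : FTOn (fun _ => ⊤ : StalkSub (SubIdeal.unitMod X)) W := fun x hx =>
    ⟨W, hW, hx, le_rfl, {SubIdeal.one' W}, fun y hy => by
      rw [Finset.coe_singleton, SubIdeal.span_germ_one]⟩
  obtain ⟨S, hFT, h1, h2⟩ := exists_global hW.isCompact hS
  haveI := isQuasicoherent_sub hFT
  obtain ⟨G, θ, hG, hGfp, hθ, -⟩ := QApproxMain.exists_fp_epi (sub S) (isFiniteType_sub hFT)
    (U := ⊥) (by simp) (fpOn_empty _)
  refine ⟨G, θ ≫ incl S, hG, hGfp, fun x => ?_⟩
  rw [rS_surjective_iff]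
  constructor
  · intro hsur
    by_contra hx
    have hle : ∀ t, stalkLin (incl S) x t ∈ S x := by
      intro t
      obtain ⟨V, hxV, w, rfl⟩ := exists_germM_eq (sub S) x t
      rw [stalkLin_germ]
      exact (mem_range_incl S _).mp ⟨w, rfl⟩ x hxV
    have htop : ∀ r : X.presheaf.stalk x, r ∈ IsLocalRing.maximalIdeal (X.presheaf.stalk x) := by
      intro r
      obtain ⟨t, ht⟩ := hsur (e₀ x r)
      rw [stalkLin_comp] at ht
      have hmem := h2 x hx (ht ▸ hle (stalkLin θ x t))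
      have h3 := Submodule.mem_map_of_mem (f := (e₀ x).symm.toLinearMap) hmem
      rw [Submodule.map_smul'', LinearEquiv.coe_coe, LinearEquiv.symm_apply_apply] at h3
      have h4 : r ∈ IsLocalRing.maximalIdeal (X.presheaf.stalk x) • (⊤ : Ideal (X.presheaf.stalk x)) :=
        Submodule.smul_mono le_rfl le_top h3
      rwa [smul_eq_mul, Ideal.mul_top] at h4
    exact (IsLocalRing.maximalIdeal.isMaximal _).ne_top (eq_top_iff.2 fun r _ => htop r)
  · intro hx t
    obtain ⟨V, hxV, m, rfl⟩ := exists_germM_eq (Coh.structureModule X) x t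
    obtain ⟨w, hw⟩ := (mem_range_incl S (res (Coh.structureModule X) (inf_le_left : V ⊓ W ≤ V) m)).mpr
      fun y hy => (h1 y hy.2).symm ▸ Submodule.mem_top
    obtain ⟨z, hz⟩ := stalk_surjective θ x (germM (sub S) (V ⊓ W) x ⟨hxV, hx⟩ w)
    refine ⟨z, ?_⟩
    rw [stalkLin_comp, hz, stalkLin_germ]
    exact (congrArg (germM (Coh.structureModule X) (V ⊓ W) x ⟨hxV, hx⟩) hw).trans
      (germM_res' _ inf_le_left x ⟨hxV, hx⟩ m)

/-- One module for finitely many affine opens. -/
theorem exists_forms (σ : Finset X.affineOpens) :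
    ∃ F : X.Modules, F.IsQuasicoherent ∧ QApprox.FPOn F ⊤ ∧ ∀ W ∈ σ,
      ∃ π : F ⟶ Coh.structureModule X, ∀ x, Function.Surjective (rS π x) ↔ x ∈ W.1 := by
  classical
  induction σ using Finset.induction with
  | empty =>
    obtain ⟨G, -, hG, hfp, -⟩ := QApproxMain.exists_fp_isoOn (Coh.structureModule X) (U := ⊥) (by simp)
      (fpOn_empty _)
    exact ⟨G, hG, hfp, by simp⟩
  | insert W τ _ ih =>
    obtain ⟨F, hF, hFfp, hπ⟩ := ih
    obtain ⟨P, ρ, hP, hPfp, hρ⟩ := exists_form W.2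
    refine ⟨F ⊞ P, SubExt.isQuasicoherent_biprod F P, QApproxMain.fpOn_biprod hFfp hPfp,
      fun W' hW' => ?_⟩
    rcases Finset.mem_insert.mp hW' with rfl | hW'
    · refine ⟨biprod.snd ≫ ρ, fun x => ?_⟩
      rw [rS_surjective_iff, ← hρ x, rS_surjective_iff]
      refine ⟨fun h t => ?_, fun h t => ?_⟩
      · obtain ⟨z, hz⟩ := h t
        exact ⟨_, (stalkLin_comp _ _ x z).symm.trans hz⟩
      · obtain ⟨z, hz⟩ := h t
        obtain ⟨z', rfl⟩ := stalk_surjective (biprod.snd : F ⊞ P ⟶ P) x z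
        exact ⟨z', (stalkLin_comp _ _ x z').trans hz⟩
    · obtain ⟨π, hπ⟩ := hπ W' hW'
      refine ⟨biprod.fst ≫ π, fun x => ?_⟩
      rw [rS_surjective_iff, ← hπ x, rS_surjective_iff]
      refine ⟨fun h t => ?_, fun h t => ?_⟩
      · obtain ⟨z, hz⟩ := h t
        exact ⟨_, (stalkLin_comp _ _ x z).symm.trans hz⟩
      · obtain ⟨z, hz⟩ := h t
        obtain ⟨z', rfl⟩ := stalk_surjective (biprod.fst : F ⊞ P ⟶ F) x z
        exact ⟨z', (stalkLin_comp _ _ x z').trans hz⟩

/-- Tensor powers of one finitely presented module surject on all finitely presented modules. -/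
theorem exists_tensorPow_surjects :
    ∃ F : X.Modules, F.IsQuasicoherent ∧ CohB1.IsFP F ∧
      ∀ M : X.Modules, M.IsQuasicoherent → CohB1.IsFP M →
        ∃ n₀ m₀ : ℕ, ∀ n m : ℕ, n₀ ≤ n → m₀ ≤ m →
          ∃ π : (∐ fun _ : Fin m => CohB1.tensorPow F n) ⟶ M, Epi π := by
  classical
  obtain ⟨σ, hσ⟩ := QApproxMain.exists_affine_finite_cover X
  obtain ⟨F, hF, hFfp, hπ⟩ := exists_forms σ
  have hFP := QApproxMain.isFP_of_fpOn hFfp
  refine ⟨F, hF, hFP, fun M hM hMfp => ?_⟩
  choose π hπ using hπ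
  choose k t ht using fun W : σ => by
    haveI := (QFP.isFP_iff M).mp hMfp W.1.1 W.1.2
    exact Module.Finite.exists_fin (R := Γ(X, W.1.1)) (M := Γ(M, W.1.1))
  choose n₀ hn₀ using fun i : (W : σ) × Fin (k W) =>
    exists_hom_of_section (π := π i.1.1 i.1.2) (hπ i.1.1 i.1.2) hFP i.1.1.2.isCompact (t i.1 i.2)
  obtain ⟨N, hN⟩ := Finite.exists_le n₀
  refine ⟨N, Fintype.card ((W : σ) × Fin (k W)), fun n m hn hm => ?_⟩
  choose h hh using fun i => hn₀ i n ((hN i).trans hn)
  obtain ⟨e⟩ : Nonempty ((W : σ) × Fin (k W) ↪ Fin m) :=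
    Function.Embedding.nonempty_of_card_le (by rwa [Fintype.card_fin])
  refine ⟨Sigma.desc (Function.extend e h 0), epi_of_stalk fun x => ?_⟩
  obtain ⟨W, hWσ, hxW⟩ := hσ x
  haveI := hM
  refine LinearMap.range_eq_top.1 (eq_top_iff.2 ?_)
  rw [← span_germ_eq_top (F := M) W.2 (ht ⟨W, hWσ⟩) hxW, Submodule.span_le]
  rintro _ ⟨j, rfl⟩
  obtain ⟨z, hz⟩ := hh ⟨⟨W, hWσ⟩, j⟩ x hxW
  refine ⟨stalkLin (Sigma.ι (fun _ : Fin m => CohB1.tensorPow F n) (e ⟨⟨W, hWσ⟩, j⟩)) x z, ?_⟩
  rw [← stalkLin_comp, Sigma.ι_desc, e.injective.extend_apply]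
  exact hz

end Groth.Agent.GenFam

end
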