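import Groth.Agent.TensorExt.Stalk
import Mathlib.Combinatorics.Pigeonhole

/-!
# Linear maps on stalks of tensor powers given on tensors of generators; padding
-/

set_option autoImplicit false
set_option backward.isDefEq.respectTransparency false
set_option linter.style.haveILetI false

universe u

open CategoryTheory CategoryTheory.Limits AlgebraicGeometry TopologicalSpace Opposite TensorProduct

noncomputable section

namespace Groth.Agent.GenFam

open Groth.Agent.PullStalk.Sky Groth.Agent.PullStalk.Exact Groth.Agent.Omega.Stalks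
  Groth.Agent.TensorExt Groth.Agent.ExtFilt.Stalkwise Groth.Agent.QCoh

variable {X : Scheme.{u}}

/-- The germ of `1`. -/
abbrev one₀ (x : X) : (Coh.structureModule X).presheaf.stalk x :=
  pw (Coh.structureModule X) x 0 fun i => i.elim0

/-- The local ring is the stalk of the structure module. -/
def e₀ (x : X) : X.presheaf.stalk x ≃ₗ[X.presheaf.stalk x] (Coh.structureModule X).presheaf.stalk x :=
  LinearEquiv.ofBijective (LinearMap.toSpanSingleton _ _ (one₀ x)) (isGen_one (Coh.structureModule X) x)

theorem e₀_germ {V : X.Opens} (x : X) (hx : x ∈ V) (a : Γ(X, V)) :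
    e₀ x (X.presheaf.germ V x hx a) = germM (Coh.structureModule X) V x hx a := by
  show X.presheaf.germ V x hx a • one₀ x = _
  have h1 : germM (Coh.structureModule X) V x hx ((1 : Γ(X, V)) : Γ(Coh.structureModule X, V)) = one₀ x :=
    (pw_germ (Coh.structureModule X) V x hx 0 fun i => i.elim0).trans
      (congrArg (pw (Coh.structureModule X) x 0) (funext fun i => i.elim0))
  rw [← h1, ← germM_smul]
  exact congrArg (germM (Coh.structureModule X) V x hx) (mul_one a)

variable {F : X.Modules}

/-- The stalk of a linear form. -/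
def rS (π : F ⟶ Coh.structureModule X) (x : X) :
    F.presheaf.stalk x →ₗ[X.presheaf.stalk x] X.presheaf.stalk x :=
  (e₀ x).symm.toLinearMap ∘ₗ stalkLin π x

theorem rS_germ (π : F ⟶ Coh.structureModule X) {V : X.Opens} (x : X) (hx : x ∈ V) (q : Γ(F, V)) :
    rS π x (germM F V x hx q) = X.presheaf.germ V x hx (π.app V q : Γ(X, V)) := by
  rw [rS, LinearMap.comp_apply, stalkLin_germ, LinearEquiv.coe_coe, LinearEquiv.symm_apply_eq, e₀_germ]

theorem rS_surjective_iff (π : F ⟶ Coh.structureModule X) (x : X) :
    Function.Surjective (rS π x) ↔ Function.Surjective (stalkLin π x) := by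
  show Function.Surjective ((e₀ x).symm ∘ stalkLin π x) ↔ _
  exact EquivLike.comp_surjective _ (e₀ x).symm

section Stalk

variable {x : X} {m : ℕ} {q : Fin m → F.presheaf.stalk x}

/-- Tensors of generators generate. -/
theorem span_pw (hq : Submodule.span (X.presheaf.stalk x) (Set.range q) = ⊤) :
    ∀ n, Submodule.span (X.presheaf.stalk x) (Set.range fun J : Fin n → Fin m => pw F x n (q ∘ J)) = ⊤
  | 0 => by
    rw [eq_top_iff]
    intro t _
    obtain ⟨a, rfl⟩ := (isGen_one F x).2 t
    exact Submodule.smul_mem _ _ (Submodule.subset_span ⟨fun i => i.elim0,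
      congrArg (pw F x 0) (funext fun i => i.elim0)⟩)
  | n + 1 => by
    rw [eq_top_iff]
    intro t ht
    clear ht
    obtain ⟨z, rfl⟩ := (prEquiv (CohB1.tensorPow F n) F x).surjective t
    induction z using TensorProduct.induction_on with
    | zero => rw [map_zero]; exact zero_mem _
    | add a b ha hb => rw [map_add]; exact add_mem ha hb
    | tmul a b =>
      rw [prEquiv_tmul]
      have ha : a ∈ Submodule.span (X.presheaf.stalk x) (Set.range fun J : Fin n → Fin m => pw F x n (q ∘ J)) := by
        rw [span_pw hq n]; trivial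
      have hb : b ∈ Submodule.span (X.presheaf.stalk x) (Set.range q) := by rw [hq]; trivial
      induction ha using Submodule.span_induction with
      | mem a ha =>
        obtain ⟨J, rfl⟩ := ha
        induction hb using Submodule.span_induction with
        | mem b hb =>
          obtain ⟨j, rfl⟩ := hb
          refine Submodule.subset_span ⟨Fin.snoc J j, ?_⟩
          show pr _ F x (pw F x n fun i => q (Fin.snoc (α := fun _ => Fin m) J j (Fin.castSucc i)))
            (q (Fin.snoc (α := fun _ => Fin m) J j (Fin.last n))) = _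
          simp only [Fin.snoc_castSucc, Fin.snoc_last]
          rfl
        | zero =>
          rw [← prEquiv_tmul, tmul_zero, map_zero]; exact zero_mem _
        | add b b' _ _ hb hb' =>
          rw [← prEquiv_tmul, tmul_add, map_add, prEquiv_tmul, prEquiv_tmul]; exact add_mem hb hb'
        | smul c b _ hb => rw [pr_smul_right]; exact Submodule.smul_mem _ _ hb
      | zero => rw [← prEquiv_tmul, zero_tmul, map_zero]; exact zero_mem _
      | add a a' _ _ ha ha' =>
        rw [← prEquiv_tmul, add_tmul, map_add, prEquiv_tmul, prEquiv_tmul]; exact add_mem ha ha'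
      | smul c a _ ha => rw [pr_smul_left]; exact Submodule.smul_mem _ _ ha

/-- A linear map given on generators compatibly with their relations. -/
theorem exists_desc {P : Type u} [AddCommGroup P] [Module (X.presheaf.stalk x) P]
    (hq : Submodule.span (X.presheaf.stalk x) (Set.range q) = ⊤) (v : Fin m → P)
    (hv : ∀ a : Fin m → X.presheaf.stalk x, (∑ j, a j • q j) = 0 → (∑ j, a j • v j) = 0) :
    ∃ L : F.presheaf.stalk x →ₗ[X.presheaf.stalk x] P, ∀ j, L (q j) = v j := by
  classical
  let g := Fintype.linearCombination (X.presheaf.stalk x) q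
  let h := Fintype.linearCombination (X.presheaf.stalk x) v
  have hg : LinearMap.range g = ⊤ := by rw [Fintype.range_linearCombination, hq]
  have hle : LinearMap.ker g ≤ LinearMap.ker h := fun a ha => by
    rw [LinearMap.mem_ker, Fintype.linearCombination_apply] at ha ⊢
    exact hv a ha
  let e := g.quotKerEquivOfSurjective (LinearMap.range_eq_top.1 hg)
  refine ⟨(LinearMap.ker g).liftQ h hle ∘ₗ e.symm.toLinearMap, fun j => ?_⟩
  have hj : g (Pi.single j 1) = q j := by
    simp [g, Fintype.linearCombination_apply_single]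
  have hj' : h (Pi.single j 1) = v j := by
    simp [h, Fintype.linearCombination_apply_single]
  rw [LinearMap.comp_apply, ← hj, ← hj', LinearEquiv.coe_coe,
    show e.symm (g (Pi.single j 1)) = Submodule.Quotient.mk (Pi.single j 1) from e.symm_apply_eq.2 rfl]
  rfl

/-- A linear map on a tensor power given by a table satisfying the relations in each slot. -/
theorem exists_lin (hq : Submodule.span (X.presheaf.stalk x) (Set.range q) = ⊤) :
    ∀ (n : ℕ) {P : Type u} [AddCommGroup P] [Module (X.presheaf.stalk x) P] (T : (Fin n → Fin m) → P),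
      (∀ (i : Fin n) (J : Fin n → Fin m) (a : Fin m → X.presheaf.stalk x),
        (∑ j, a j • q j) = 0 → (∑ j, a j • T (Function.update J i j)) = 0) →
      ∃ L : (CohB1.tensorPow F n).presheaf.stalk x →ₗ[X.presheaf.stalk x] P,
        ∀ J, L (pw F x n (q ∘ J)) = T J
  | 0, P, _, _, T, _ => by
    let g : X.presheaf.stalk x ≃ₗ[X.presheaf.stalk x] (CohB1.tensorPow F 0).presheaf.stalk x :=
      LinearEquiv.ofBijective (LinearMap.toSpanSingleton _ _ (pw F x 0 fun i => i.elim0)) (isGen_one F x)
    refine ⟨LinearMap.toSpanSingleton _ _ (T fun i => i.elim0) ∘ₗ g.symm.toLinearMap, fun J => ?_⟩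
    have h1 : pw F x 0 (q ∘ J) = g 1 := by
      show pw F x 0 (q ∘ J) = (1 : X.presheaf.stalk x) • pw F x 0 fun i => i.elim0
      rw [one_smul]
      exact congrArg (pw F x 0) (funext fun i => i.elim0)
    rw [LinearMap.comp_apply, h1, LinearEquiv.coe_coe, LinearEquiv.symm_apply_apply,
      LinearMap.toSpanSingleton_apply, one_smul]
    exact congrArg T (funext fun i => i.elim0)
  | n + 1, P, _, _, T, hT => by
    classical
    have hlast : ∀ J : Fin n → Fin m, ∃ L : F.presheaf.stalk x →ₗ[X.presheaf.stalk x] P,
        ∀ j, L (q j) = T (Fin.snoc J j) := by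
      intro J
      refine exists_desc hq _ fun a ha => ?_
      rcases Nat.eq_zero_or_pos m with rfl | hm
      · simp
      have h := hT (Fin.last n) (Fin.snoc J ⟨0, hm⟩) a ha
      simpa only [Fin.update_snoc_last] using h
    choose T' hT' using hlast
    obtain ⟨L, hL⟩ := exists_lin hq n T' fun i J a ha => by
      refine LinearMap.ext_on hq ?_
      rintro _ ⟨k, rfl⟩
      rw [LinearMap.sum_apply, LinearMap.zero_apply]
      simp only [LinearMap.smul_apply, hT', Fin.snoc_update]
      exact hT i.castSucc (Fin.snoc J k) a ha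
    refine ⟨TensorProduct.lift L ∘ₗ (prEquiv (CohB1.tensorPow F n) F x).symm.toLinearMap, fun J => ?_⟩
    show TensorProduct.lift L ((prEquiv _ F x).symm (pr _ F x (pw F x n fun i => q (J i.castSucc)) (q (J (Fin.last n))))) = _
    rw [← prEquiv_tmul, LinearEquiv.symm_apply_apply, TensorProduct.lift.tmul]
    refine (congrArg (fun l : F.presheaf.stalk x →ₗ[X.presheaf.stalk x] P => l (q (J (Fin.last n))))
      (hL (Fin.init J))).trans ((hT' (Fin.init J) _).trans ?_)
    rw [Fin.snoc_init_self]

variable {P : Type u} [AddCommGroup P] [Module (X.presheaf.stalk x) P]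

/-- `t ⊗ q ↦ r q • φ t`. -/
def pad {A : X.Modules} (r : F.presheaf.stalk x →ₗ[X.presheaf.stalk x] X.presheaf.stalk x)
    (φ : A.presheaf.stalk x →ₗ[X.presheaf.stalk x] P) :
    (CohB1.tensorMod A F).presheaf.stalk x →ₗ[X.presheaf.stalk x] P :=
  TensorProduct.lift (LinearMap.mk₂ _ (fun t b => r b • φ t)
    (fun t t' b => by rw [map_add, smul_add])
    (fun c t b => by rw [map_smul, smul_comm])
    (fun t b b' => by rw [map_add, add_smul])
    (fun c t b => by rw [map_smul, smul_eq_mul, mul_smul])) ∘ₗ (prEquiv A F x).symm.toLinearMap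

theorem pad_pr {A : X.Modules} (r : F.presheaf.stalk x →ₗ[X.presheaf.stalk x] X.presheaf.stalk x)
    (φ : A.presheaf.stalk x →ₗ[X.presheaf.stalk x] P) (t : A.presheaf.stalk x) (b : F.presheaf.stalk x) :
    pad r φ (pr A F x t b) = r b • φ t := by
  rw [← prEquiv_tmul, pad, LinearMap.comp_apply, LinearEquiv.coe_coe, LinearEquiv.symm_apply_apply,
    TensorProduct.lift.tmul]
  rfl

/-- Iterated padding. -/
def padN (r : F.presheaf.stalk x →ₗ[X.presheaf.stalk x] X.presheaf.stalk x) (n : ℕ) :
    (l : ℕ) → ((CohB1.tensorPow F n).presheaf.stalk x →ₗ[X.presheaf.stalk x] P) →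
      ((CohB1.tensorPow F (n + l)).presheaf.stalk x →ₗ[X.presheaf.stalk x] P)
  | 0, φ => φ
  | l + 1, φ => pad r (padN r n l φ)

theorem padN_pw (r : F.presheaf.stalk x →ₗ[X.presheaf.stalk x] X.presheaf.stalk x) (n : ℕ)
    (φ : (CohB1.tensorPow F n).presheaf.stalk x →ₗ[X.presheaf.stalk x] P) :
    ∀ (l : ℕ) (v : Fin (n + l) → F.presheaf.stalk x), padN r n l φ (pw F x (n + l) v) =
      (∏ i : Fin l, r (v (Fin.natAdd n i))) • φ (pw F x n fun i => v (Fin.castAdd l i))
  | 0, v => by
    rw [Fin.prod_univ_zero, one_smul]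
    rfl
  | l + 1, v => by
    show pad r (padN r n l φ) (pr _ F x (pw F x (n + l) fun i => v (Fin.castSucc i)) (v (Fin.last (n + l)))) = _
    rw [pad_pr, padN_pw r n φ l, Fin.prod_univ_castSucc, smul_smul, mul_comm]
    rfl

/-- The product of a linear form over a tensor. -/
def eps (r : F.presheaf.stalk x →ₗ[X.presheaf.stalk x] X.presheaf.stalk x) :
    (n : ℕ) → ((CohB1.tensorPow F n).presheaf.stalk x →ₗ[X.presheaf.stalk x] X.presheaf.stalk x)
  | 0 => (LinearEquiv.ofBijective (LinearMap.toSpanSingleton (X.presheaf.stalk x) _ (pw F x 0 fun i => i.elim0))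
      (isGen_one F x : Function.Bijective _)).symm.toLinearMap
  | n + 1 => pad r (eps r n)

theorem eps_pw (r : F.presheaf.stalk x →ₗ[X.presheaf.stalk x] X.presheaf.stalk x) :
    ∀ (n : ℕ) (v : Fin n → F.presheaf.stalk x), eps r n (pw F x n v) = ∏ i, r (v i)
  | 0, v => by
    rw [Fin.prod_univ_zero]
    show (LinearEquiv.ofBijective (LinearMap.toSpanSingleton (X.presheaf.stalk x) _ (pw F x 0 fun i => i.elim0))
      (isGen_one F x : Function.Bijective _)).symm _ = _
    rw [LinearEquiv.symm_apply_eq]
    show pw F x 0 v = (1 : X.presheaf.stalk x) • pw F x 0 fun i => i.elim0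
    rw [one_smul]
    exact congrArg (pw F x 0) (funext fun i => i.elim0)
  | n + 1, v => by
    show pad r (eps r n) (pr _ F x (pw F x n fun i => v (Fin.castSucc i)) (v (Fin.last n))) = _
    rw [pad_pr, eps_pw r n, Fin.prod_univ_castSucc, smul_eq_mul, mul_comm]

theorem eps_surjective (r : F.presheaf.stalk x →ₗ[X.presheaf.stalk x] X.presheaf.stalk x)
    (hr : Function.Surjective r) (n : ℕ) : Function.Surjective (eps r n) := by
  intro a
  obtain ⟨b, hb⟩ := hr 1
  exact ⟨a • pw F x n fun _ => b, by rw [map_smul, eps_pw, hb, Finset.prod_const_one, smul_eq_mul, mul_one]⟩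

end Stalk

/-- Among many factors one is repeated. -/
theorem exists_pow_dvd_prod {A : Type*} [CommRing A] {m N : ℕ} (k : ℕ) (h : m * k < N)
    (f : Fin m → A) (J : Fin N → Fin m) : ∃ j, f j ^ k ∣ ∏ i, f (J i) := by
  classical
  obtain ⟨j, hj⟩ := Fintype.exists_lt_card_fiber_of_mul_lt_card J (n := k)
    (by simpa using h)
  refine ⟨j, (pow_dvd_pow _ hj.le).trans ?_⟩
  rw [← Finset.prod_filter_mul_prod_filter_not Finset.univ (fun i => J i = j)]
  refine dvd_mul_of_dvd_left ?_ _
  rw [Finset.prod_congr rfl fun i hi => by rw [(Finset.mem_filter.1 hi).2], Finset.prod_const]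

end Groth.Agent.GenFam

end
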