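import Groth.Agent.ExtFilt.Stalkwise
import Groth.Agent.LimTop.PullSec

/-!
# Sections over affines of a quotient of a direct sum
-/

set_option autoImplicit false
set_option linter.style.haveILetI false

universe u

open CategoryTheory CategoryTheory.Limits AlgebraicGeometry TopologicalSpace Opposite

noncomputable section

namespace Groth.Agent.GenFam

open Groth.Agent.PullStalk.Sky Groth.Agent.PullStalk.Exact Groth.Agent.Omega.Stalks
  Groth.Agent.Props.SubMod Groth.Agent.Props.SubSheaf Groth.Agent.QCoh Groth.Agent.ExtFilt.Stalkwise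

variable {X : Scheme.{u}} {κ : Type u} {E : κ → X.Modules} {M : X.Modules}

/-- The stalks of a quotient of a direct sum are spanned by the images of the summands. -/
theorem span_stalk_eq_top (π : (∐ E) ⟶ M) [Epi π] (x : X) :
    (⨆ j, LinearMap.range (stalkLin (Sigma.ι E j ≫ π) x)) = ⊤ := by
  let S : StalkSub M := fun y => ⨆ j, LinearMap.range (stalkLin (Sigma.ι E j ≫ π) y)
  have hS : Cont S := by
    intro y t ht
    induction ht using Submodule.iSup_induction' with
    | mem j t ht =>
      obtain ⟨e, rfl⟩ := ht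
      obtain ⟨W, hyW, s, rfl⟩ := exists_germM_eq (E j) y e
      exact ⟨W, hyW, (Sigma.ι E j ≫ π).app W s, (stalkLin_germ _ W y hyW s).symm,
        fun z hz => le_iSup (fun j => LinearMap.range (stalkLin (Sigma.ι E j ≫ π) z)) j
          ⟨_, stalkLin_germ _ W z hz s⟩⟩
    | zero =>
      exact ⟨⊤, trivial, 0, map_zero (M.presheaf.germ ⊤ y trivial).hom, fun z hz => by
        rw [show germM M ⊤ z hz 0 = 0 from map_zero (M.presheaf.germ ⊤ z hz).hom]
        exact zero_mem _⟩
    | add a b _ _ ha hb =>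
      obtain ⟨W, hyW, m, rfl, hm⟩ := ha
      obtain ⟨W', hyW', m', rfl, hm'⟩ := hb
      refine ⟨W ⊓ W', ⟨hyW, hyW'⟩, res M inf_le_left m + res M inf_le_right m', ?_, fun z hz => ?_⟩
      · exact (map_add (M.presheaf.germ _ y _).hom _ _).trans
          (congrArg₂ (· + ·) (germM_res' M inf_le_left y ⟨hyW, hyW'⟩ m)
            (germM_res' M inf_le_right y ⟨hyW, hyW'⟩ m'))
      · rw [show germM M (W ⊓ W') z hz (_ + _) = _ + _ from map_add (M.presheaf.germ _ z hz).hom _ _]
        refine add_mem ?_ ?_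
        · exact cast (congrArg (· ∈ S z) (germM_res' M inf_le_left z hz m).symm) (hm z hz.1)
        · exact cast (congrArg (· ∈ S z) (germM_res' M inf_le_right z hz m').symm) (hm' z hz.2)
  have h0 : π ≫ quotπ S = 0 := Sigma.hom_ext _ _ fun j => by
    rw [comp_zero, ← Category.assoc]
    refine hom_ext_stalk fun y => LinearMap.ext fun e => ?_
    rw [stalkLin_comp, stalkLin_zero, ← LinearMap.mem_ker, ker_quotπ hS]
    exact le_iSup (fun j => LinearMap.range (stalkLin (Sigma.ι E j ≫ π) y)) j ⟨e, rfl⟩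
  have h1 : quotπ S = 0 := (cancel_epi π).1 (h0.trans comp_zero.symm)
  rw [eq_top_iff]
  intro t _
  have h2 : t ∈ LinearMap.ker (stalkLin (quotπ S) x) := by
    rw [LinearMap.mem_ker, h1, stalkLin_zero]
  rwa [ker_quotπ hS] at h2

/-- Sections over an affine open of a quotient of a direct sum are spanned by the sections of the summands. -/
theorem span_sections_eq_top [M.IsQuasicoherent] (hE : ∀ j, (E j).IsQuasicoherent)
    (π : (∐ E) ⟶ M) [Epi π] {W : X.Opens} (hW : IsAffineOpen W) :
    (⨆ j, LinearMap.range (CohDev.appLin (Sigma.ι E j ≫ π) W)) = ⊤ := by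
  rw [eq_top_iff]
  intro z _
  let T : Submodule Γ(X, W) Γ(M, W) := ⨆ j, LinearMap.range (CohDev.appLin (Sigma.ι E j ≫ π) W)
  let I : Ideal Γ(X, W) := T.colon {z}
  suffices hI : I = ⊤ by
    have : (1 : Γ(X, W)) ∈ I := hI ▸ Submodule.mem_top
    simpa [I, Submodule.mem_colon_singleton] using this
  by_contra hI
  obtain ⟨m, hm, hIm⟩ := Ideal.exists_le_maximal I hI
  let x : X := hW.fromSpec ⟨m, hm.isPrime⟩
  have hx : x ∈ W := hW.range_fromSpec.le ⟨_, rfl⟩
  have hxm : (hW.primeIdealOf ⟨x, hx⟩).asIdeal = m := by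
    exact congrArg PrimeSpectrum.asIdeal
      (hW.fromSpec.isOpenEmbedding.injective (hW.fromSpec_primeIdealOf ⟨x, hx⟩))
  let Sx := (hW.primeIdealOf ⟨x, hx⟩).asIdeal.primeCompl
  suffices key : ∀ t ∈ (⨆ j, LinearMap.range (stalkLin (Sigma.ι E j ≫ π) x)),
      ∃ c ∈ Sx, ∃ w ∈ T, X.presheaf.germ W x hx c • t = germM M W x hx w by
    obtain ⟨c, hc, w, hw, he⟩ := key (germM M W x hx z) (by rw [span_stalk_eq_top π x]; trivial)
    rw [← germM_smul] at he
    letI := LimTop.stalkModule M hx
    haveI := LimTop.isLocalizedModule_germLin M hW hx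
    obtain ⟨c', hc'⟩ := (IsLocalizedModule.eq_iff_exists Sx (LimTop.germLin M hx)).1
      (show LimTop.germLin M hx (c • z) = LimTop.germLin M hx w from he)
    have hmem : c'.1 * c ∈ I := by
      rw [Submodule.mem_colon_singleton, mul_smul,
        show c'.1 • (c • z) = c'.1 • w from hc']
      exact T.smul_mem _ hw
    have hnot : c'.1 * c ∈ Sx := mul_mem c'.2 hc
    exact hnot (hxm.symm ▸ hIm hmem)
  intro t ht
  induction ht using Submodule.iSup_induction' with
  | mem j t ht =>
    obtain ⟨e, rfl⟩ := ht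
    haveI := hE j
    letI := LimTop.stalkModule (E j) hx
    haveI := LimTop.isLocalizedModule_germLin (E j) hW hx
    obtain ⟨⟨s, c⟩, hc⟩ := IsLocalizedModule.surj Sx (LimTop.germLin (E j) hx) e
    refine ⟨c.1, c.2, (Sigma.ι E j ≫ π).app W s,
      le_iSup (fun j => LinearMap.range (CohDev.appLin (Sigma.ι E j ≫ π) W)) j ⟨s, rfl⟩, ?_⟩
    rw [← LinearMap.map_smul, ← stalkLin_germ]
    exact congrArg _ hc
  | zero =>
    exact ⟨1, one_mem _, 0, zero_mem _, by
      rw [smul_zero]; exact (map_zero (M.presheaf.germ W x hx).hom).symm⟩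
  | add a b _ _ ha hb =>
    obtain ⟨c, hc, w, hw, he⟩ := ha
    obtain ⟨c', hc', w', hw', he'⟩ := hb
    refine ⟨c * c', mul_mem hc hc', c' • w + c • w', add_mem (T.smul_mem _ hw) (T.smul_mem _ hw'), ?_⟩
    rw [show germM M W x hx (c' • w + c • w') = germM M W x hx (c' • w) + germM M W x hx (c • w') from
      map_add (M.presheaf.germ W x hx).hom _ _,
      germM_smul, germM_smul, ← he, ← he', smul_add, map_mul, smul_smul, smul_smul, mul_comm (X.presheaf.germ W x hx c')]

end Groth.Agent.GenFam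

end
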