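import Groth.Agent.QCoh.Basic
import Groth.Prelude.Def_RelSpec
import Groth.Agent.HomShQC.Basic
import Mathlib.Algebra.TrivSqZeroExt.Basic

/-!
# The square zero algebra `O ⊕ M`
-/

set_option autoImplicit false
set_option linter.style.haveILetI false

universe u

open CategoryTheory CategoryTheory.Limits AlgebraicGeometry TopologicalSpace Opposite TrivSqZeroExt
open RelSpec

noncomputable section

namespace Groth.Agent.GenFam

open Groth.Agent.QCoh

variable {X : Scheme.{u}} (M : X.Modules)

/-- The sections of `O ⊕ M`. -/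
abbrev Sq (U : X.Opens) : Type u := TrivSqZeroExt Γ(X, U) Γ(M, U)

/-- The `R`-bimodule structure on sections. -/
instance opModule (U : X.Opens) : Module Γ(X, U)ᵐᵒᵖ Γ(M, U) :=
  Module.compHom _ ((RingHom.id Γ(X, U)).fromOpposite mul_comm)

instance isCentralScalar (U : X.Opens) : IsCentralScalar Γ(X, U) Γ(M, U) := ⟨fun _ _ => rfl⟩

/-- The restriction. -/
def sqRes {U V : X.Opens} (h : V ≤ U) : Sq M U →+* Sq M V where
  toFun x := inl (rres h x.fst) + inr (res M h x.snd)
  map_one' := by ext <;> simp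
  map_mul' x y := by
    ext
    · simp
    · simp only [snd_add, snd_inl, snd_inr, fst_add, fst_inl, fst_inr, TrivSqZeroExt.snd_mul,
        map_add, res_smul, zero_add, add_zero, op_smul_eq_smul]
  map_zero' := by ext <;> simp
  map_add' x y := by
    ext
    · simp
    · simp

theorem fst_sqRes {U V : X.Opens} (h : V ≤ U) (x : Sq M U) : (sqRes M h x).fst = rres h x.fst := by
  simp [sqRes]

theorem snd_sqRes {U V : X.Opens} (h : V ≤ U) (x : Sq M U) : (sqRes M h x).snd = res M h x.snd := by
  simp [sqRes]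

/-- The presheaf. -/
def sqPre : TopCat.Presheaf CommRingCat.{u} X.carrier where
  obj U := CommRingCat.of (Sq M U.unop)
  map {U V} i := CommRingCat.ofHom (sqRes M i.unop.le)
  map_id U := by
    refine CommRingCat.hom_ext (RingHom.ext fun x => TrivSqZeroExt.ext ?_ ?_)
    · exact (fst_sqRes M _ x).trans (by rw [rres_self]; rfl)
    · exact (snd_sqRes M _ x).trans (by rw [res_self]; rfl)
  map_comp {U V W} i j := by
    refine CommRingCat.hom_ext (RingHom.ext fun x => TrivSqZeroExt.ext ?_ ?_)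
    · refine (fst_sqRes M _ x).trans (Eq.symm ?_)
      refine (fst_sqRes M _ (sqRes M i.unop.le x)).trans ?_
      rw [fst_sqRes, rres_rres]
    · refine (snd_sqRes M _ x).trans (Eq.symm ?_)
      refine (snd_sqRes M _ (sqRes M i.unop.le x)).trans ?_
      rw [snd_sqRes, res_res]

theorem isSheaf_sqPre : (sqPre M).IsSheaf := by
  rw [TopCat.Presheaf.isSheaf_iff_isSheafUniqueGluing]
  intro ι U sf hsf
  have h1 : ∀ i j, X.presheaf.map (Opens.infLELeft (U i) (U j)).op (sf i).fst =
      X.presheaf.map (Opens.infLERight (U i) (U j)).op (sf j).fst := fun i j =>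
    (fst_sqRes M _ _).symm.trans ((congrArg TrivSqZeroExt.fst (hsf i j)).trans (fst_sqRes M _ _))
  have h2 : ∀ i j, M.presheaf.map (Opens.infLELeft (U i) (U j)).op (sf i).snd =
      M.presheaf.map (Opens.infLERight (U i) (U j)).op (sf j).snd := fun i j =>
    (snd_sqRes M _ _).symm.trans ((congrArg TrivSqZeroExt.snd (hsf i j)).trans (snd_sqRes M _ _))
  obtain ⟨a, ha, hau⟩ := X.sheaf.existsUnique_gluing U (fun i => (sf i).fst) h1
  obtain ⟨m, hm, hmu⟩ := TopCat.Sheaf.existsUnique_gluing ⟨M.presheaf, M.isSheaf⟩ U (fun i => (sf i).snd) h2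
  refine ⟨(show Sq M (iSup U) from (a, m)), fun i => TrivSqZeroExt.ext ?_ ?_,
    fun y hy => TrivSqZeroExt.ext ?_ ?_⟩
  · exact (fst_sqRes M _ _).trans (ha i)
  · exact (snd_sqRes M _ _).trans (hm i)
  · exact hau y.fst fun i => (fst_sqRes M _ _).symm.trans (congrArg TrivSqZeroExt.fst (hy i))
  · exact hmu y.snd fun i => (snd_sqRes M _ _).symm.trans (congrArg TrivSqZeroExt.snd (hy i))

/-- The structure map. -/
def sqStr : X.presheaf ⟶ sqPre M where
  app U := CommRingCat.ofHom (inlHom Γ(X, U.unop) Γ(M, U.unop))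
  naturality {U V} i := by
    refine CommRingCat.hom_ext (RingHom.ext fun x => TrivSqZeroExt.ext ?_ ?_)
    · exact (fst_sqRes M i.unop.le (inl x)).symm
    · refine Eq.trans ?_ (snd_sqRes M i.unop.le (inl x)).symm
      exact ((snd_inl _ _).trans (map_zero (res M i.unop.le).hom).symm)

theorem isQC_sqPre [M.IsQuasicoherent] : RelSpec.IsQC (sqPre M) (sqStr M) := by
  intro U hU r
  letI : Algebra (Sq M U) (Sq M (X.basicOpen r)) := (sqRes M (X.basicOpen_le r)).toAlgebra
  haveI hO := hU.isLocalization_basicOpen r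
  let r' : Γ(X, X.basicOpen r) := rres (X.basicOpen_le r) r
  have hu : IsUnit r' := RingedSpace.isUnit_res_basicOpen _ r
  show IsLocalization.Away (inl r : Sq M U) (Sq M (X.basicOpen r))
  have hmap : sqRes M (X.basicOpen_le r) (inl r) = inl r' :=
    TrivSqZeroExt.ext (by rw [fst_sqRes]; rfl) (by rw [snd_sqRes, snd_inl, snd_inl]; exact map_zero _)
  refine IsLocalization.Away.mk (inl r : Sq M U) ?_ (fun s => ?_) (fun a b hab => ?_)
  · rw [RingHom.algebraMap_toAlgebra, hmap]
    exact hu.map (inlHom Γ(X, X.basicOpen r) Γ(M, X.basicOpen r))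
  · obtain ⟨n, a, ha⟩ := IsLocalization.Away.surj r s.fst
    obtain ⟨n', m, hm⟩ := (isLocalizingAt M hU r).surj s.snd
    refine ⟨n + n', inl (r ^ n' * a) + inr (r ^ n • m), ?_⟩
    rw [RingHom.algebraMap_toAlgebra, hmap]
    ext
    · rw [fst_sqRes, fst_add, fst_inl, fst_inr, add_zero, map_mul, map_pow,
        show rres (X.basicOpen_le r) a = algebraMap Γ(X, U) Γ(X, X.basicOpen r) a from rfl, ← ha]
      simp only [TrivSqZeroExt.fst_mul, fst_pow, fst_inl, pow_add]
      change _ = r' ^ n' * (s.fst * r' ^ n)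
      ring
    · rw [snd_sqRes, snd_add, snd_inl, snd_inr, zero_add, res_smul, hm, map_pow, smul_smul, inl_pow,
        TrivSqZeroExt.snd_mul, snd_inl, smul_zero, zero_add, op_smul_eq_smul, fst_inl, pow_add]
  · rw [RingHom.algebraMap_toAlgebra] at hab
    have e1 : algebraMap Γ(X, U) Γ(X, X.basicOpen r) a.fst = algebraMap Γ(X, U) Γ(X, X.basicOpen r) b.fst :=
      (fst_sqRes M _ a).symm.trans ((congrArg TrivSqZeroExt.fst hab).trans (fst_sqRes M _ b))
    obtain ⟨n, hn⟩ := IsLocalization.Away.exists_of_eq r e1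
    obtain ⟨n', hn'⟩ := (isLocalizingAt M hU r).eq_zero (a.snd - b.snd) (by
      rw [map_sub, ← snd_sqRes, ← snd_sqRes, hab, sub_self])
    refine ⟨n + n', ?_⟩
    rw [inl_pow]
    ext
    · rw [TrivSqZeroExt.fst_mul, TrivSqZeroExt.fst_mul, fst_inl, pow_add, mul_comm (r ^ n), mul_assoc, mul_assoc, hn]
    · rw [TrivSqZeroExt.snd_mul, TrivSqZeroExt.snd_mul, fst_inl, snd_inl, smul_zero, smul_zero, add_zero,
        add_zero, pow_add, mul_smul, mul_smul, ← sub_eq_zero, ← smul_sub, ← smul_sub, hn', smul_zero]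

/-- The algebra `O ⊕ M`. -/
def sqz [M.IsQuasicoherent] : QCAlg X where
  presheaf := sqPre M
  isSheaf := isSheaf_sqPre M
  str := sqStr M
  isQC := isQC_sqPre M

/-- The projection to `M`. -/
def sqSnd [M.IsQuasicoherent] : (sqz M).toModule ⟶ M :=
  ⟨PresheafOfModules.homMk
    { app := fun U => AddCommGrpCat.ofHom (show Sq M U.unop →+ Γ(M, U.unop) from
        { toFun := TrivSqZeroExt.snd, map_zero' := rfl, map_add' := fun _ _ => rfl })
      naturality := fun {U V} i => by
        ext x
        exact snd_sqRes M i.unop.le x }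
    (fun U r x => by
      let x' : Sq M U.unop := x
      let r' : Γ(X, U.unop) := r
      change ((inl r' : Sq M U.unop) * x').snd = r' • x'.snd
      rw [TrivSqZeroExt.snd_mul, fst_inl, snd_inl, smul_zero, add_zero])⟩

theorem sqSnd_app [M.IsQuasicoherent] (U : X.Opens) (x : Sq M U) : (sqSnd M).app U x = x.snd := rfl

end Groth.Agent.GenFam

end
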